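/-
Solvability criteria: Wielandt's theorem, Sylow systems, and the converse of Hall's theorem
(the latter modulo Burnside's `p^a q^b` theorem, taken as a hypothesis).
-/
import Cfsg.Agent.Lib.Hall.Existence
import Cfsg.Prelude.Def_SolvableStructure
import Mathlib.GroupTheory.Complement
import Mathlib.Data.Nat.Factorization.Basic

set_option autoImplicit false

open scoped Pointwise

universe u

namespace CfsgLib.Hall

open Cfsg CfsgLib.CoprimeAction

variable {G : Type u} [Group G] [Finite G]

theorem exists_solvable_normal_le {H₁ H₂ : Subgroup G} (h₂ : Group.IsSolvable H₂) {q : ℕ}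
    [Fact q.Prime] {N : Subgroup G} (hN : IsPGroup q N) (hN1 : N ≠ ⊥)
    (hNn : H₁ ≤ Subgroup.normalizer (N : Set G))
    (h12 : ∀ g : G, ∃ x ∈ H₁, ∃ y ∈ H₂, g = x * y) (hq : ¬ q ∣ H₂.index) :
    ∃ M : Subgroup G, M.Normal ∧ M ≠ ⊥ ∧ Group.IsSolvable M := by
  obtain ⟨c, hc⟩ := hN.nonempty_fixed_point_of_prime_not_dvd_card (G ⧸ H₂)
    (by rwa [← Subgroup.index_eq_card])
  induction c using QuotientGroup.induction_on with
  | H x =>
    obtain ⟨a, ha, b, hb, rfl⟩ := h12 x
    have hfix : ∀ n ∈ N, a⁻¹ * n * a ∈ H₂ := by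
      intro n hn
      have h : (((n * (a * b)) : G) : G ⧸ H₂) = ((a * b : G) : G ⧸ H₂) := hc ⟨n, hn⟩
      have h' := QuotientGroup.eq.mp h.symm
      have := H₂.mul_mem (H₂.mul_mem hb h') (H₂.inv_mem hb)
      simpa [mul_assoc] using this
    have hle : N ≤ H₂ := fun n hn => by
      simpa [mul_assoc] using hfix _ (conj_mem (hNn ha) hn)
    have hall : ∀ g : G, ∀ n ∈ N, g * n * g⁻¹ ∈ H₂ := by
      intro g n hn
      obtain ⟨x, hx, y, hy, hxy⟩ := h12 g⁻¹
      have h' := H₂.mul_mem (H₂.mul_mem (H₂.inv_mem hy) (hle (conj_mem' (hNn hx) hn))) hy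
      rw [show g = y⁻¹ * x⁻¹ by rw [← mul_inv_rev, ← hxy, inv_inv]]
      simpa [mul_assoc] using h'
    refine ⟨Subgroup.normalClosure (N : Set G), inferInstance,
      fun h => hN1 (le_bot_iff.mp (h ▸ Subgroup.subset_normalClosure)), ?_⟩
    haveI := h₂
    refine isSolvable_of_le ((Subgroup.closure_le H₂).mpr fun z hz => ?_)
    obtain ⟨n, hn, hz⟩ := Group.mem_conjugatesOfSet_iff.mp hz
    obtain ⟨g, rfl⟩ := isConj_iff.mp hz
    exact hall g n hn

/-- **Wielandt**: if `G = H₁H₂ = H₁H₃` with solvable `Hᵢ` and `|G : H₂|`, `|G : H₃|` are coprime,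
then `G` is solvable. -/
theorem isSolvable_of_products (H₁ H₂ H₃ : Subgroup G)
    (h₁ : Group.IsSolvable H₁) (h₂ : Group.IsSolvable H₂) (h₃ : Group.IsSolvable H₃)
    (h12 : ∀ g : G, ∃ x ∈ H₁, ∃ y ∈ H₂, g = x * y) (h13 : ∀ g : G, ∃ x ∈ H₁, ∃ y ∈ H₃, g = x * y)
    (hcop : H₂.index.Coprime H₃.index) : Group.IsSolvable G := by
  induction hn : Nat.card G using Nat.strong_induction_on generalizing G with
  | _ n ih =>
    by_cases h1 : H₁ = ⊥
    · have htop : H₂ = ⊤ := top_le_iff.mp fun g _ => by
        obtain ⟨x, hx, y, hy, rfl⟩ := h12 g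
        rw [h1, Subgroup.mem_bot] at hx
        simpa [hx] using hy
      subst htop
      exact @Group.isSolvable_of_surjective _ _ _ _ (Subgroup.topEquiv : (⊤ : Subgroup G) ≃* G).toMonoidHom
        (MulEquiv.surjective _) h₂
    haveI := h₁
    haveI : Nontrivial H₁ := (Subgroup.nontrivial_iff_ne_bot H₁).mpr h1
    obtain ⟨q, hq, hne⟩ := exists_pCore_ne_bot (G := H₁)
    haveI := Fact.mk hq
    let N : Subgroup G := (pCore q H₁).map H₁.subtype
    have hN : IsPGroup q N := (Cores.isPGroup_pCore q H₁).map _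
    have hN1 : N ≠ ⊥ := by
      rw [Ne, Subgroup.map_eq_bot_iff_of_injective _ H₁.subtype_injective]
      exact hne
    have hNn : H₁ ≤ Subgroup.normalizer (N : Set G) :=
      Subgroup.le_normalizer.trans (Cores.normalizer_le_normalizer_map_subtype H₁ _)
    obtain ⟨M, hM, hM1, hMs⟩ : ∃ M : Subgroup G, M.Normal ∧ M ≠ ⊥ ∧ Group.IsSolvable M := by
      by_cases hd : q ∣ H₂.index
      · exact exists_solvable_normal_le h₃ hN hN1 hNn h13 fun h =>
          hq.not_dvd_one (hcop ▸ Nat.dvd_gcd hd h)
      · exact exists_solvable_normal_le h₂ hN hN1 hNn h12 hd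
    let f : G →* G ⧸ M := QuotientGroup.mk' M
    have hsurj : Function.Surjective f := QuotientGroup.mk'_surjective M
    have hlt : Nat.card (G ⧸ M) < n := by
      rw [← hn, ← M.card_mul_index, ← Subgroup.index_eq_card]
      exact lt_mul_of_one_lt_left (Nat.pos_of_ne_zero Subgroup.index_ne_zero_of_finite)
        ((Subgroup.one_lt_card_iff_ne_bot M).mpr hM1)
    have hs : ∀ H : Subgroup G, Group.IsSolvable H → Group.IsSolvable ↥(H.map f) := fun H h =>
      @Group.isSolvable_of_surjective _ _ _ _ (f.subgroupMap H) (f.subgroupMap_surjective H) h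
    have hp : ∀ A B : Subgroup G, (∀ g : G, ∃ x ∈ A, ∃ y ∈ B, g = x * y) →
        ∀ g : G ⧸ M, ∃ x ∈ A.map f, ∃ y ∈ B.map f, g = x * y := by
      intro A B h g
      obtain ⟨g, rfl⟩ := hsurj g
      obtain ⟨x, hx, y, hy, rfl⟩ := h g
      exact ⟨_, Subgroup.mem_map_of_mem f hx, _, Subgroup.mem_map_of_mem f hy, map_mul f x y⟩
    have := ih _ hlt (G := G ⧸ M) (H₁.map f) (H₂.map f) (H₃.map f) (hs _ h₁) (hs _ h₂) (hs _ h₃)
      (hp _ _ h12) (hp _ _ h13)
      ((hcop.coprime_dvd_left (H₂.index_map_dvd hsurj)).coprime_dvd_right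
        (H₃.index_map_dvd hsurj)) rfl
    exact (Group.isSolvable_iff_subgroup_quotient M).mpr ⟨hMs, this⟩

theorem index_inf_of_coprime {H K : Subgroup G} (h : H.index.Coprime K.index) :
    (H ⊓ K).index = H.index * K.index :=
  le_antisymm Subgroup.index_inf_le (Nat.le_of_dvd
    (Nat.pos_of_ne_zero Subgroup.index_ne_zero_of_finite)
    (h.mul_dvd_of_dvd_of_dvd (Subgroup.index_dvd_of_le inf_le_left)
      (Subgroup.index_dvd_of_le inf_le_right)))

/-- Subgroups of coprime index factorise the group. -/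
theorem exists_mul_of_coprime_index {H K : Subgroup G} (h : H.index.Coprime K.index) (g : G) :
    ∃ x ∈ H, ∃ y ∈ K, g = x * y := by
  have hidx := index_inf_of_coprime h
  have hrel : H.relIndex K = H.index := by
    apply Nat.eq_of_mul_eq_mul_right (Nat.pos_of_ne_zero
      (Subgroup.index_ne_zero_of_finite (H := K)))
    rw [← Subgroup.inf_relIndex_right, Subgroup.relIndex_mul_index inf_le_right, hidx]
  have hinj : Function.Injective (fun y : K ⧸ H.subgroupOf K =>
      Quotient.liftOn' y (fun y : K => ((y : G) : G ⧸ H)) fun a b hab => by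
        rw [QuotientGroup.leftRel_apply] at hab
        exact QuotientGroup.eq.mpr hab) := by
    intro a b
    induction a using QuotientGroup.induction_on with | _ a => ?_
    induction b using QuotientGroup.induction_on with | _ b => ?_
    intro hab
    have hab' : (QuotientGroup.mk (a : G) : G ⧸ H) = QuotientGroup.mk (b : G) := hab
    have h2 := QuotientGroup.eq.mp hab'
    exact QuotientGroup.eq.mpr h2
  have hcard : Nat.card (G ⧸ H) ≤ Nat.card (K ⧸ H.subgroupOf K) :=
    (show H.index = H.relIndex K from hrel.symm).le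
  obtain ⟨y, hy⟩ := (hinj.bijective_of_nat_card_le hcard).2 ((g⁻¹ : G) : G ⧸ H)
  induction y using QuotientGroup.induction_on with | _ y => ?_
  have h' := QuotientGroup.eq.mp hy
  exact ⟨((y : G)⁻¹ * g⁻¹)⁻¹, H.inv_mem h', (y : G)⁻¹, K.inv_mem y.2, by group⟩

theorem index_eq_ordProj_of_isPiHall {p : ℕ} (hp : p.Prime) {H : Subgroup G}
    (hH : IsPiHall {p}ᶜ H) : H.index = p ^ (Nat.card G).factorization p := by
  obtain ⟨h1, h2⟩ := isPiHall_iff.mp hH
  rw [compl_compl] at h2
  refine eq_of_mul_eq_mul (π := {p}) (b := Nat.card H)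
    (d := Nat.card G / p ^ (Nat.card G).factorization p) ?_ h2 h1 (fun q hq hd =>
      (Nat.prime_dvd_prime_iff_eq hq hp).mp (hq.dvd_of_dvd_pow hd)) ?_
  · rw [mul_comm, Subgroup.card_mul_index, Nat.ordProj_mul_ordCompl_eq_self]
  · intro q hq hd hqp
    rw [Set.mem_singleton_iff] at hqp
    subst hqp
    exact Nat.not_dvd_ordCompl hq Nat.card_pos.ne' hd

/-- A finite solvable group has a Hall complement system. -/
theorem exists_isComplementSystem [Group.IsSolvable G] :
    ∃ K : Nat.Primes → Subgroup G, IsComplementSystem K := by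
  choose K hK using fun p : Nat.Primes => exists_isPiHall (G := G) {(p : ℕ)}ᶜ
  exact ⟨K, fun p => index_eq_ordProj_of_isPiHall p.2 (hK p)⟩

theorem index_iInf_of_isComplementSystem {K : Nat.Primes → Subgroup G}
    (hK : IsComplementSystem K) (A : Finset Nat.Primes) :
    (⨅ p ∈ A, K p).index = ∏ p ∈ A, (p : ℕ) ^ (Nat.card G).factorization p := by
  induction A using Finset.induction with
  | empty => simp
  | @insert q A hq ih =>
    rw [Finset.iInf_insert, Finset.prod_insert hq, index_inf_of_coprime, ih, hK q]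
    rw [ih, hK q]
    refine Nat.Coprime.prod_right fun r hr => ?_
    exact Nat.coprime_pow_primes _ _ q.2 r.2 fun h => hq (Nat.Primes.coe_nat_injective h ▸ hr)

omit [Finite G] in
/-- The prime divisors of the order of `G`. -/
theorem primesOf_aux : Function.Injective (fun p : {x // x ∈ (Nat.card G).primeFactors} =>
    (⟨p.1, Nat.prime_of_mem_primeFactors p.2⟩ : Nat.Primes)) :=
  fun _ _ h => Subtype.ext (congrArg (fun q : Nat.Primes => (q : ℕ)) h)

/-- The prime divisors of the order of `G`, as primes. -/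
noncomputable def primesOf (G : Type u) [Group G] : Finset Nat.Primes :=
  (Nat.card G).primeFactors.attach.map ⟨_, primesOf_aux (G := G)⟩

omit [Finite G] in
theorem mem_primesOf {p : Nat.Primes} :
    p ∈ primesOf G ↔ (p : ℕ) ∈ (Nat.card G).primeFactors := by
  rw [primesOf, Finset.mem_map]
  exact ⟨fun ⟨q, _, h⟩ => h ▸ q.2, fun h => ⟨⟨p, h⟩, Finset.mem_attach _ _, rfl⟩⟩

theorem prod_primes_eq_card :
    ∏ p ∈ primesOf G, (p : ℕ) ^ (Nat.card G).factorization p = Nat.card G := by
  rw [primesOf, Finset.prod_map]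
  refine Eq.trans ?_ (Nat.prod_primeFactors_pow_factorization (Nat.card_pos (α := G)).ne').symm
  exact Finset.prod_attach _ (fun p : ℕ => p ^ (Nat.card G).factorization p)

/-- The product of `p`-parts over the prime divisors other than those in `B` times the parts over
`B` is the order of the group. -/
theorem prod_sdiff_mul (B : Finset Nat.Primes) :
    (∏ p ∈ primesOf G \ B,
        (p : ℕ) ^ (Nat.card G).factorization p) *
      ∏ p ∈ B, (p : ℕ) ^ (Nat.card G).factorization p = Nat.card G := by
  refine Eq.trans ?_ (prod_primes_eq_card (G := G))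
  rw [mul_comm, ← Finset.prod_union Finset.disjoint_sdiff, Finset.union_sdiff_self_eq_union]
  refine (Finset.prod_subset Finset.subset_union_right fun p hp hp' => ?_).symm
  rw [mem_primesOf] at hp'
  rw [Finsupp.notMem_support_iff.mp (by rwa [Nat.support_factorization]), pow_zero]

theorem card_iInf_sdiff {K : Nat.Primes → Subgroup G} (hK : IsComplementSystem K)
    (B : Finset Nat.Primes) :
    Nat.card ↥(⨅ p ∈ primesOf G \ B, K p) =
      ∏ p ∈ B, (p : ℕ) ^ (Nat.card G).factorization p := by
  have h := (⨅ p ∈ primesOf G \ B, K p).card_mul_index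
  have h' : _ = Nat.card G := prod_sdiff_mul (G := G) B
  rw [index_iInf_of_isComplementSystem hK, mul_comm] at h
  refine Nat.eq_of_mul_eq_mul_left ?_ (h.trans h'.symm)
  exact Finset.prod_pos fun p _ => pow_pos p.2.pos _

/-- Two subgroups of coprime order inside a subgroup of the product order make it up. -/
theorem coe_mul_eq_of_card {S T W : Subgroup G} (hS : S ≤ W) (hT : T ≤ W)
    (hcop : (Nat.card S).Coprime (Nat.card T))
    (hcard : Nat.card S * Nat.card T = Nat.card W) : (S : Set G) * (T : Set G) = W := by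
  refine Set.Subset.antisymm ?_ fun w hw => ?_
  · rintro _ ⟨s, hs, t, ht, rfl⟩
    exact W.mul_mem (hS hs) (hT ht)
  have hc : (S.subgroupOf W).IsComplement' (T.subgroupOf W) := by
    refine Subgroup.isComplement'_of_coprime ?_ ?_
    · rw [Nat.card_congr (Subgroup.subgroupOfEquivOfLe hS).toEquiv,
        Nat.card_congr (Subgroup.subgroupOfEquivOfLe hT).toEquiv, hcard]
    · rw [Nat.card_congr (Subgroup.subgroupOfEquivOfLe hS).toEquiv,
        Nat.card_congr (Subgroup.subgroupOfEquivOfLe hT).toEquiv]
      exact hcop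
  obtain ⟨⟨⟨s, hs⟩, ⟨t, ht⟩⟩, hst⟩ := hc.surjective ⟨w, hw⟩
  exact ⟨s, hs, t, ht, congrArg Subtype.val hst⟩

/-- A finite solvable group has a Sylow basis. -/
theorem exists_sylow_basis [Group.IsSolvable G] :
    ∃ S : (p : Nat.Primes) → Sylow (p : ℕ) G,
      ∀ p q : Nat.Primes, (S p : Set G) * (S q : Set G) = (S q : Set G) * (S p : Set G) := by
  obtain ⟨K, hK⟩ := exists_isComplementSystem (G := G)
  let T := primesOf G
  let D : Finset Nat.Primes → Subgroup G := fun B => ⨅ p ∈ T \ B, K p
  have hcard : ∀ p : Nat.Primes,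
      Nat.card (D {p}) = (p : ℕ) ^ (Nat.card G).factorization p := fun p =>
    (card_iInf_sdiff hK {p}).trans (Finset.prod_singleton _ _)
  have hmono : ∀ {B C : Finset Nat.Primes}, B ⊆ C → D B ≤ D C := fun h =>
    le_iInf₂ fun p hp => iInf₂_le p (Finset.sdiff_subset_sdiff le_rfl h hp)
  refine ⟨fun p => haveI : Fact (p : ℕ).Prime := ⟨p.2⟩; Sylow.ofCard (D {p}) (hcard p),
    fun p q => ?_⟩
  by_cases hpq : p = q
  · subst hpq
    rfl
  have hpq' : (p : ℕ) ≠ q := fun h => hpq (Nat.Primes.coe_nat_injective h)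
  have hW : Nat.card (D {p}) * Nat.card (D {q}) = Nat.card (D {p, q}) := by
    rw [hcard, hcard]
    exact ((card_iInf_sdiff hK {p, q}).trans (Finset.prod_pair hpq)).symm
  have hcop : (Nat.card (D {p})).Coprime (Nat.card (D {q})) := by
    rw [hcard, hcard]
    exact Nat.coprime_pow_primes _ _ p.2 q.2 hpq'
  change (D {p} : Set G) * (D {q} : Set G) = (D {q} : Set G) * (D {p} : Set G)
  rw [coe_mul_eq_of_card (hmono (by simp)) (hmono (by simp)) hcop hW,
    coe_mul_eq_of_card (hmono (by simp)) (hmono (by simp)) hcop.symm ((mul_comm _ _).trans hW)]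

/-- The converse of Hall's theorem, given Burnside's `p^a q^b` theorem. -/
theorem isSolvable_of_isComplementSystem
    (burnside : ∀ {X : Type u} [Group X] [Finite X] (p q a b : ℕ), p.Prime → q.Prime →
      Nat.card X = p ^ a * q ^ b → Group.IsSolvable X)
    (h : ∀ p : ℕ, p.Prime → ∃ H : Subgroup G, H.index = p ^ (Nat.card G).factorization p) :
    Group.IsSolvable G := by
  induction hn : Nat.card G using Nat.strong_induction_on generalizing G with
  | _ n ih =>
    have hfac := Nat.prod_primeFactors_pow_factorization (Nat.card_pos (α := G)).ne'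
    by_cases h3 : 2 < (Nat.card G).primeFactors.card
    · obtain ⟨p, hp, q, hq, r, hr, hpq, hpr, hqr⟩ := Finset.two_lt_card.mp h3
      have hsub : ∀ s ∈ (Nat.card G).primeFactors, ∀ H : Subgroup G,
          H.index = s ^ (Nat.card G).factorization s → Group.IsSolvable H := by
        intro s hs H hH
        have hcard : Nat.card H = Nat.card G / s ^ (Nat.card G).factorization s := by
          rw [← hH, ← H.card_mul_index, Nat.mul_div_cancel _
            (Nat.pos_of_ne_zero Subgroup.index_ne_zero_of_finite)]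
        have hlt : Nat.card H < n := by
          rw [← hn, hcard]
          obtain ⟨hsp, hsd, -⟩ := Nat.mem_primeFactors.mp hs
          exact Nat.div_lt_self Nat.card_pos
            (Nat.one_lt_pow (hsp.factorization_pos_of_dvd Nat.card_pos.ne' hsd).ne' hsp.one_lt)
        refine ih _ hlt (G := H) (fun t ht => ?_) rfl
        by_cases hts : t = s
        · subst hts
          refine ⟨⊤, ?_⟩
          rw [Subgroup.index_top, hcard, Nat.factorization_ordCompl, Finsupp.erase_same, pow_zero]
        · obtain ⟨K, hK⟩ := h t ht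
          have hcop : K.index.Coprime H.index := by
            rw [hK, hH]
            exact Nat.coprime_pow_primes _ _ ht (Nat.prime_of_mem_primeFactors hs) hts
          refine ⟨K.subgroupOf H, ?_⟩
          rw [hcard, Nat.factorization_ordCompl, Finsupp.erase_ne hts, ← hK]
          apply Nat.eq_of_mul_eq_mul_right (Nat.pos_of_ne_zero
            (Subgroup.index_ne_zero_of_finite (H := H)))
          rw [← index_inf_of_coprime hcop,
            ← Subgroup.relIndex_mul_index (inf_le_right : K ⊓ H ≤ H), Subgroup.inf_relIndex_right]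
          rfl
      obtain ⟨Kp, hKp⟩ := h p (Nat.prime_of_mem_primeFactors hp)
      obtain ⟨Kq, hKq⟩ := h q (Nat.prime_of_mem_primeFactors hq)
      obtain ⟨Kr, hKr⟩ := h r (Nat.prime_of_mem_primeFactors hr)
      have hc : ∀ {s t : ℕ} {H K : Subgroup G}, s ∈ (Nat.card G).primeFactors →
          t ∈ (Nat.card G).primeFactors → s ≠ t → H.index = s ^ (Nat.card G).factorization s →
          K.index = t ^ (Nat.card G).factorization t → H.index.Coprime K.index := by
        intro s t H K hs ht hst h1 h2
        rw [h1, h2]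
        exact Nat.coprime_pow_primes _ _ (Nat.prime_of_mem_primeFactors hs)
          (Nat.prime_of_mem_primeFactors ht) hst
      exact isSolvable_of_products Kp Kq Kr (hsub p hp Kp hKp) (hsub q hq Kq hKq)
        (hsub r hr Kr hKr) (exists_mul_of_coprime_index (hc hp hq hpq hKp hKq))
        (exists_mul_of_coprime_index (hc hp hr hpr hKp hKr)) (hc hq hr hqr hKq hKr)
    · have hle : (Nat.card G).primeFactors.card ≤ 2 := not_lt.mp h3
      interval_cases hc : (Nat.card G).primeFactors.card
      · rw [Finset.card_eq_zero] at hc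
        rw [hc, Finset.prod_empty] at hfac
        exact burnside 2 3 0 0 Nat.prime_two Nat.prime_three (by simpa using hfac)
      · obtain ⟨p, hp⟩ := Finset.card_eq_one.mp hc
        rw [hp, Finset.prod_singleton] at hfac
        have hpP : p.Prime := Nat.prime_of_mem_primeFactors (hp ▸ Finset.mem_singleton_self p)
        exact burnside p p ((Nat.card G).factorization p) 0 hpP hpP (by simpa using hfac)
      · obtain ⟨p, q, hpq, hp⟩ := Finset.card_eq_two.mp hc
        rw [hp, Finset.prod_pair hpq] at hfac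
        exact burnside p q _ _ (Nat.prime_of_mem_primeFactors (hp ▸ Finset.mem_insert_self p _))
          (Nat.prime_of_mem_primeFactors
            (hp ▸ Finset.mem_insert_of_mem (Finset.mem_singleton_self q))) hfac

theorem exists_subgroup_coe_eq_mul {H K : Subgroup G}
    (h : (H : Set G) * (K : Set G) = (K : Set G) * (H : Set G)) :
    ((H ⊔ K : Subgroup G) : Set G) = (H : Set G) * (K : Set G) := by
  refine Set.Subset.antisymm ?_ ?_
  · let L : Subgroup G :=
      { carrier := (H : Set G) * (K : Set G)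
        one_mem' := ⟨1, one_mem _, 1, one_mem _, mul_one 1⟩
        mul_mem' := by
          rintro _ _ ⟨a, ha, b, hb, rfl⟩ ⟨c, hc, d, hd, rfl⟩
          obtain ⟨c', hc', b', hb', hbc⟩ : b * c ∈ (H : Set G) * (K : Set G) :=
            h ▸ Set.mul_mem_mul hb hc
          refine ⟨a * c', H.mul_mem ha hc', b' * d, K.mul_mem hb' hd, ?_⟩
          change a * c' * (b' * d) = a * b * (c * d)
          rw [mul_assoc a, ← mul_assoc c', show c' * b' = b * c from hbc]
          group
        inv_mem' := by
          rintro _ ⟨a, ha, b, hb, rfl⟩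
          rw [mul_inv_rev, h]
          exact Set.mul_mem_mul (K.inv_mem hb) (H.inv_mem ha) }
    have : H ⊔ K ≤ L := sup_le (fun a ha => ⟨a, ha, 1, one_mem _, mul_one a⟩)
      (fun b hb => ⟨1, one_mem _, b, hb, one_mul b⟩)
    exact this
  · rintro _ ⟨a, ha, b, hb, rfl⟩
    exact Subgroup.mul_mem_sup ha hb

/-- A group with a Sylow basis has a Hall complement for each prime. -/
theorem exists_complement_of_sylow_basis (S : (p : Nat.Primes) → Sylow (p : ℕ) G)
    (hS : ∀ p q : Nat.Primes, (S p : Set G) * (S q : Set G) = (S q : Set G) * (S p : Set G))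
    (p : ℕ) (hp : p.Prime) :
    ∃ H : Subgroup G, H.index = p ^ (Nat.card G).factorization p := by
  have hSc : ∀ q : Nat.Primes, Nat.card (S q : Subgroup G) =
      (q : ℕ) ^ (Nat.card G).factorization q := fun q => by
    haveI : Fact (q : ℕ).Prime := ⟨q.2⟩
    exact (S q).card_eq_multiplicity
  have key : ∀ B : Finset Nat.Primes, ∃ U : Subgroup G,
      Nat.card U = ∏ q ∈ B, (q : ℕ) ^ (Nat.card G).factorization q ∧
      ∀ r : Nat.Primes, (U : Set G) * (S r : Set G) = (S r : Set G) * (U : Set G) := by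
    intro B
    induction B using Finset.induction with
    | empty => exact ⟨⊥, by simp, fun r => by simp⟩
    | @insert q B hq ih =>
      obtain ⟨U, hU, hcom⟩ := ih
      have hcoe : ((U ⊔ (S q : Subgroup G) : Subgroup G) : Set G) = (U : Set G) * (S q : Set G) :=
        exists_subgroup_coe_eq_mul (hcom q)
      refine ⟨U ⊔ (S q : Subgroup G), ?_, fun r => ?_⟩
      · have hcop : (Nat.card U).Coprime (Nat.card (S q : Subgroup G)) := by
          rw [hU, hSc]
          exact Nat.Coprime.prod_left fun r hr =>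
            Nat.coprime_pow_primes _ _ r.2 q.2 fun h => hq (Nat.Primes.coe_nat_injective h ▸ hr)
        have hdisj : Disjoint U (S q : Subgroup G) :=
          disjoint_iff.mpr (Subgroup.inf_eq_bot_of_coprime hcop)
        rw [Finset.prod_insert hq, ← hSc, ← hU]
        have hinj := Subgroup.mul_injective_of_disjoint hdisj
        rw [mul_comm, ← Nat.card_prod]
        refine (Nat.card_eq_of_bijective
          (fun x : U × (S q : Subgroup G) => (⟨(x.1 : G) * (x.2 : G),
            Subgroup.mul_mem_sup x.1.2 x.2.2⟩ : ↥(U ⊔ (S q : Subgroup G))))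
          ⟨fun a b hab => hinj (congrArg Subtype.val hab), fun y => ?_⟩).symm
        obtain ⟨a, ha, b, hb, hab⟩ : (y : G) ∈ (U : Set G) * (S q : Set G) := hcoe ▸ y.2
        exact ⟨(⟨a, ha⟩, ⟨b, hb⟩), Subtype.ext hab⟩
      · rw [hcoe, mul_assoc, hS q r, ← mul_assoc, hcom r, mul_assoc]
  obtain ⟨P, rfl⟩ : ∃ P : Nat.Primes, (P : ℕ) = p := ⟨⟨p, hp⟩, rfl⟩
  obtain ⟨U, hU, -⟩ := key (primesOf G \ {P})
  refine ⟨U, ?_⟩
  have h := prod_sdiff_mul (G := G) {P}
  rw [← hU, Finset.prod_singleton] at h
  exact Nat.eq_of_mul_eq_mul_left Nat.card_pos (U.card_mul_index.trans h.symm)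

end CfsgLib.Hall
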